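import Cfsg.Agent.Lib.InvChar.CosetCert

/-! Coset enumeration certificate J3X7 for a presented sporadic group. -/

set_option autoImplicit false
set_option maxRecDepth 100000

namespace CfsgLib.InvChar.Coset.J3X7

/-- facts -/
noncomputable def facts : Tr := (.leaf 0x9f0000000008f0001400007f0001300006f0005900013400059000062000540005210004f00052000011000142000530000b00004f000032000250000df000240000020004e00002f0002000001f0001f0000c3000210000b100015000171000010001310001a000001000140005930005800058200057000570000560005620005500055300005000543000100005330005200052400051000511000500005040004f0004f30004e0004e40004d0004d30004c0004c20004b0004b00004a0004a2000490004940004800048300047000472000460004600004500045200044000444000430004330004200042200041000410000400004020003f0003f40003e0003e30003d0003d20003c0003c00003b0003b20003a0003a4000390003930003800038200037000370000360003620003500035400034000343000330003320003200032000031000312000300003040002f0002f30002e0002e20002d0002d00002c0002c20002b0002b40002a0002a300029000292000280002800002700027200026000264000250002530002400024200023000230000220002220000c000212000200002040001f0001f30001e0001e20001d0001d00001c0001c20001b0001b3000000001a000019000191000180001800001700017200016000163000150001540000d000140000130001320001200012300011000114000100001000000f0000f10000e0000e00000d0000d10000c0000c40000b0000b30000a0000a200001000091000080000800000700007400006000060000050000510000400004000003000031000020000240000100001000000)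
/-- justifications -/
noncomputable def just : Tr := (.leaf 0x590006b000080000400c0000004c001a80001c00000030000006800069000060001000c000001600015c0015800154001500001500080050010005800057000560005500054000050006700053000100001100012014380140180014c0004000194001980018c00170000500018400090001880000c00010000140a0b00b0020004e000600005900064000524002401400000044000480004c001900014900080050000005200051000500004f0004e00060000000005b0001700018000190005a000134083001c0180013800180000000002400029000800100400024000610000c0005d000200005f00002004240080140008c00088000840003100060030010004d0004c0004b0004a000490004800047000460004500044000430004200041000400003f0003e0003d0003c0003b0003a000390003800037000360003500034000330003200031000300002f0002e0002d0002c0002b0002a0002900028000270002600025000240002300022000210000b0000a00009000000103c0c40000007c001780000400040030000001e0001d0001c0001b0001a0000040020014004000800007c0007800074000700006c000680000000024000280002c070e00700400015000160005b000090000a4002400c00800000001640004c0016800064000600005c00050070000001900018000170001600015000140000c0000b0000a0000900000000590001302c3002c0080004c0004800044000400003c0003800034000300002c0002800024000000c0b00c000)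
/-- relators -/
def rels : List (List ℕ) := [[0, 0], [1, 1], [2, 2], [3, 3], [4, 4], [1, 0, 1, 0, 1, 0, 1, 0], [2, 0, 2, 1], [3, 2, 3, 2, 3, 2], [3, 2, 0, 2, 3, 0], [3, 2, 1, 2, 3, 1], [0, 2, 3, 4, 0, 2, 3, 4, 0, 2, 3, 4], [0, 2, 3, 4, 1, 0, 1, 0, 4, 3, 2, 0, 1], [0, 2, 3, 4, 1, 4, 3, 2, 0, 1, 0, 1, 0, 1], [2, 3, 4, 2, 3, 4, 2, 3], [3, 2, 0, 2, 3, 4, 2, 3, 4, 3, 2, 0], [0, 2, 3, 4, 2, 0, 2, 3, 4, 2, 0, 2, 3, 4, 2, 0, 2, 3, 4, 2, 0, 2, 3, 4, 2, 0, 2, 3, 4, 2, 0, 2, 3, 4, 2, 0, 2, 3, 4, 2, 0, 2, 3, 4, 2, 0, 2, 3, 4, 2]]
/-- subgroup words -/
def subs : List (List ℕ) := []
/-- the letters, as letters of the whole group -/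
def emb : List ℕ := [3, 4, 6, 7, 8]
/-- certificate -/
noncomputable def cert : Cert := ⟨5, 109, 89, facts, just, rels, subs⟩

end CfsgLib.InvChar.Coset.J3X7
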